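import Cfsg.Agent.H6.Chain
import Cfsg.Prelude.Def_Spor_Ly

set_option autoImplicit false
set_option maxRecDepth 100000
set_option Elab.async false

namespace Cfsg.H6.Ly

def L : List (FreeGroup Spor.Ly.Gen) := [1, Spor.Ly.a, Spor.Ly.a⁻¹, Spor.Ly.b, Spor.Ly.b⁻¹, Spor.Ly.c, Spor.Ly.c⁻¹, Spor.Ly.d, Spor.Ly.d⁻¹, Spor.Ly.e, Spor.Ly.e⁻¹, Spor.Ly.a1, Spor.Ly.a1⁻¹, Spor.Ly.a2, Spor.Ly.a2⁻¹, Spor.Ly.a3, Spor.Ly.a3⁻¹, Spor.Ly.a4, Spor.Ly.a4⁻¹, Spor.Ly.c1, Spor.Ly.c1⁻¹, Spor.Ly.c2, Spor.Ly.c2⁻¹, Spor.Ly.c3, Spor.Ly.c3⁻¹, Spor.Ly.c4, Spor.Ly.c4⁻¹, Spor.Ly.c5, Spor.Ly.c5⁻¹, Spor.Ly.u, Spor.Ly.u⁻¹, Spor.Ly.x23, Spor.Ly.x23⁻¹, Spor.Ly.x24, Spor.Ly.x24⁻¹, Spor.Ly.x25, Spor.Ly.x25⁻¹, Spor.Ly.x29, Spor.Ly.x29⁻¹, Spor.Ly.x47, Spor.Ly.x47⁻¹, Spor.Ly.x96, Spor.Ly.x96⁻¹, Spor.Ly.x129, Spor.Ly.x129⁻¹, Spor.Ly.x162, Spor.Ly.x162⁻¹, Spor.Ly.x163, Spor.Ly.x163⁻¹,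 Spor.Ly.x164, Spor.Ly.x164⁻¹, Spor.Ly.x165, Spor.Ly.x165⁻¹, Spor.Ly.x166, Spor.Ly.x166⁻¹, Spor.Ly.x167, Spor.Ly.x167⁻¹, Spor.Ly.x168, Spor.Ly.x168⁻¹, Spor.Ly.x169, Spor.Ly.x169⁻¹, Spor.Ly.x364, Spor.Ly.x364⁻¹, Spor.Ly.x365, Spor.Ly.x365⁻¹, Spor.Ly.x366, Spor.Ly.x366⁻¹, Spor.Ly.x367, Spor.Ly.x367⁻¹, Spor.Ly.x368, Spor.Ly.x368⁻¹, Spor.Ly.x369, Spor.Ly.x369⁻¹, Spor.Ly.x370, Spor.Ly.x370⁻¹, Spor.Ly.x371, Spor.Ly.x371⁻¹, Spor.Ly.z, Spor.Ly.z⁻¹]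

def idx : Spor.Ly.Gen → ℕ
  | .a => 1
  | .b => 3
  | .c => 5
  | .d => 7
  | .e => 9
  | .a1 => 11
  | .a2 => 13
  | .a3 => 15
  | .a4 => 17
  | .c1 => 19
  | .c2 => 21
  | .c3 => 23
  | .c4 => 25
  | .c5 => 27
  | .u => 29
  | .x23 => 31
  | .x24 => 33
  | .x25 => 35
  | .x29 => 37
  | .x47 => 39
  | .x96 => 41
  | .x129 => 43
  | .x162 => 45
  | .x163 => 47
  | .x164 => 49
  | .x165 => 51
  | .x166 => 53
  | .x167 => 55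
  | .x168 => 57
  | .x169 => 59
  | .x364 => 61
  | .x365 => 63
  | .x366 => 65
  | .x367 => 67
  | .x368 => 69
  | .x369 => 71
  | .x370 => 73
  | .x371 => 75
  | .z => 77

def R : List (List ℕ) := [[1,1,1,1,1,1,1,1], [3,3,3,3,3], [1,3,1,3,1,3,1,3], [2,2,4,1,1,3], [2,4,1,3,2,4,1,3,2,4,1,3], [19,6], [21,2,6,1], [23,4,6,3], [25,3,6,4], [27,22,20,21,19], [19,19,19,19,19], [27,27,27,27,27], [20,28,19,27], [22,28,21,27], [24,28,23,27], [26,28,25,27], [20,24,19,23,27,27], [20,26,19,25,28,28], [22,24,21,23,27], [22,26,21,25], [24,26,23,25,27], [2,21,1,19,19], [2,23,1,26,20,23,23], [2,25,1,26,20,26,23,21,20], [2,27,1,28,28], [4,21,3,25,19,25,24,22], [4,23,3,23,23,26,20,20], [4,27,3,28], [9,8,20,8,3,2,4,20,8,2,20,1,20,2,19,1,3,3], [9,9], [10,19,9,19,4,24,4], [10,23,9,1,25,19,22,2,4,4], [10,25,9,26,23,4,4], [10,27,9,25,20,23,20], [9,1,1,9,25,28,20,2,3,2,4,4,2],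 [10,3,9,25,25,23,20], [9,1,3,3,1,4,1,9,25,28,20,2,2], [9,21,9,22,9,21,26,1,23,1,1,1], [7,10,4,21,2,10,2,10,2,27,25,19,3,1,4,4,2], [7,7,2,2,2,2], [4,8,3,7], [8,1,7,2,2,2], [7,27,7,27,7,27,7,27,7,27], [7,27,7,28,7,27,2,2], [11,2], [13,3,2,4], [15,3,3,2,4,4], [17,4,4,2,3,3], [29,2,2], [31,8], [33,7], [35,4,6,1,4,4,5,8,5,1,6,2,5,4,4,1,3,1,4,4], [37,6,4,6,8,3,3,6,8,3,6,4,6,2,5,4,4,1,4,4,1,4,2], [39,7,5,4,1,5,1,7,5], [41,8,4], [43,3,7], [45,2,4,5,2,3,5,4,1,3,1], [47,4,6,4,1,6,2,3,3], [49,2,4,2,6,1,3,1], [51,4,2,3,6,4,1,3], [53,5,3,3,6,2,4,6,3,1,4,4], [55,1,1,1], [57,1,1,3,1,4], [59,1,3,3,2,4,4,2], [61,3,2,4,2,3,2,5,1,3,5,4,7,5,4,1,5,3,8,1], [63,7,3,6,1,6,2,6,8,5,5,1,4,5,4,6,1,3,3,2], [65,6,4,6,8,3,3,6,8,4,6,4,4,6,3,1,3,3,1,3,2,4], [67,3,1,4,2,4,4,2,4,5,3,3,5,3,7,5,4,4,7,5,3,5], [69,3,3,1,3,5,3,3,6,2,5,1,7,5,2,3,5,2,7,5,1], [71,3,2,3,3,2,3,5,3,1,4,7,5,3,1,4,7,5,1],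 [73,1,4,1,3,3,1,6,1,3,2,7,5,1,6,4,6,2,7], [75,4,1,3,1,3,6,2,6,1,6,7,5,4,6,1,5], [78,19,77,46], [78,21,77,48], [78,23,77,50], [78,25,77,52], [78,27,77,54], [78,11,77,56], [78,13,77,58], [78,15,77,60], [77,77,30], [17,77,17,77,17,77,29], [39,77,61,77,69,77], [78,33,78,71,77,31,77,37], [77,65,77,63,78,67,78,73], [77,41,77,35,78,43,78,75]]

def X : List (List ℕ) := [[1], [3], [5], [7], [9], [11], [13], [15], [17], [19], [21], [23], [25], [27], [29], [31], [33], [35], [37], [39], [41], [43], [45], [47], [49], [51], [53], [55], [57], [59], [61], [63], [65], [67], [69], [71], [73], [75], [77]]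

theorem hP : presOK Spor.Ly.edges Spor.Ly.extra L idx 5381825076706105398496393365439695390822816392347292151119926404102975530075676048482267439894910561204322493318345072491623057037460813750783087536761323172684420524720552877937506708947456 R = true := by decide +kernel

theorem hidx : ∀ a, L.getD (idx a) 1 = FreeGroup.of a := by intro a; cases a <;> rfl

/-- The letters of the presented group. -/
def ev : ℕ → Spor.Ly := evP Spor.Ly.edges Spor.Ly.extra L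

theorem hev : Good ev 5381825076706105398496393365439695390822816392347292151119926404102975530075676048482267439894910561204322493318345072491623057037460813750783087536761323172684420524720552877937506708947456 := presOK_good hP

theorem hR : Rels ev R := presOK_rels hP hidx

theorem hX : gen ev X = ⊤ := gen_eq_top hidx (by intro a; cases a <;> decide)

theorem lift {G : Type*} [Group G] {ev' : ℕ → G} (h : Good ev' 5381825076706105398496393365439695390822816392347292151119926404102975530075676048482267439894910561204322493318345072491623057037460813750783087536761323172684420524720552877937506708947456) (h' : Rels ev' R) :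
    ∃ φ : Spor.Ly →* G, ∀ l, φ (ev l) = ev' l := presOK_lift hP h h'

end Cfsg.H6.Ly
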